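import Groth.Agent.Gaga.H975.S4309Of
import Groth.Agent.Gaga.H975.BridgePt
import Groth.Agent.Ega1.QcqsPush

/-!
# S4309 (full faithfulness) from S4325 (base change in degree zero) over the point
-/

set_option autoImplicit false

open CategoryTheory TopologicalSpace Opposite AlgebraicGeometry

noncomputable section

namespace Groth.Agent.Gaga.H975.S4309OfBC

open Groth.Agent.Gaga.H975.ModSec Groth.Agent.Gaga.H975.AnSec Groth.Agent.Gaga.H975.BridgePt

attribute [local instance] overSelf isOver_str

/-- Full faithfulness from the statement of S4325 for the structure morphism. -/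
theorem of_anBaseChange (X : Scheme.{0}) [X.Over An.SC] [IsReduced X] [IsProper (X ↘ An.SC)]
    (H : ∀ F : X.Modules, Coh.IsCoh F → IsIso (An.anBaseChange (X ↘ An.SC) F))
    (M N : X.Modules) (hM : Coh.IsCoh M) (hN : Coh.IsCoh N) :
    Function.Bijective ((An.analytify X).map : (M ⟶ N) → ((An.analytify X).obj M ⟶ (An.analytify X).obj N)) := by
  refine S4309Of.of_sections X (fun F hF => ?_) M N hM hN
  have := H F hF
  have : F.IsQuasicoherent := hF.1
  exact an_bijective_of_isIso F (Groth.Agent.Ega1.QcqsPush.isQCoh_pushforward (X ↘ An.SC) F inferInstance)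

end Groth.Agent.Gaga.H975.S4309OfBC
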