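import Groth.Agent.Gaga.H975.DAn
import Groth.Agent.Gaga.H883.Serre
import Groth.Agent.Gaga.H991.BC
import Groth.Agent.Gaga.H991.NatAb
import Groth.Agent.An.H875.ProperMap
import Groth.Agent.S4308
import Groth.Agent.Ega1.QCohSpec
import Groth.Agent.Ega1.QcqsPush
import Groth.Agent.CohqB.TwistMono

/-!
# From line bundles to coherent modules on `P^n_R`: acyclicity and base change for large twists

`P = CohB1.ProjSpace n R`, `p = CohB1.ProjSpace.toSpec n R : P ⟶ Spec R` over `ℂ`, `O(k)` the twisting sheaves.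

* `exists_indZero_tw`: if the `O(k)^an`, `k ≥ 0`, are acyclic along the fibres of `p^an` then so is
  `M(k)^an` for `M` coherent and `k ≥ k₀(M)`.
* `exists_isIso_tw`: if moreover `(p_* O(k))^an ⟶ p^an_* (O(k)^an)` is an isomorphism for `k ≥ 0`, then
  so is `(p_* M(k))^an ⟶ p^an_* (M(k)^an)` for `k ≥ k₀(M)`.
-/

set_option autoImplicit false

open CategoryTheory Abelian Limits Opposite TopologicalSpace AlgebraicGeometry Topology

noncomputable section

namespace Groth.Agent.Gaga.H975.DIso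

attribute [local instance] Abelian.hasFiniteBiproducts

open Groth.Agent.Gaga.H41.Ind Groth.Agent.Gaga.H975.DInd Groth.Agent.Gaga.H975.DAn
open Groth.Agent.Sga67.SerreVB (tw sumO)

section Additive

variable {X S : Scheme.{0}} [X.Over An.SC] [S.Over An.SC] (f : X ⟶ S) [f.IsOver An.SC]

instance additive_anPushMap : (An.anPushMap f).Additive where
  map_add := rfl

instance additive_pushMod : (An.pushMod f).Additive where
  map_add := rfl

instance additive_anPush : (An.anPush X).Additive where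
  map_add := rfl

instance additive_analytify : (An.analytify X).Additive :=
  (An.analytifyAdj X).left_adjoint_additive

end Additive

section Steps

universe v₁ v₂ u₁ u₂

variable {C : Type u₁} {D : Type u₂} [Category.{v₁} C] [Category.{v₂} D] [Abelian C] [Abelian D]
  {F G : C ⥤ D} [F.Additive] [G.Additive] (α : F ⟶ G) (T : ShortComplex C)

omit [F.Additive] [G.Additive] [Abelian D] in
theorem epi_step (h2 : Epi (α.app T.X₂)) (hG : Epi (G.map T.g)) : Epi (α.app T.X₃) := by
  have h := α.naturality T.g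
  have h3 : Epi (F.map T.g ≫ α.app T.X₃) := by
    rw [h]
    infer_instance
  exact epi_of_epi (F.map T.g) (α.app T.X₃)

theorem mono_step [PreservesFiniteLimits G] (hT : T.ShortExact) (hF : Epi (F.map T.g))
    (h1 : Epi (α.app T.X₁)) (h2 : Mono (α.app T.X₂)) : Mono (α.app T.X₃) := by
  have := hT.mono_f
  have hG : (T.map G).Exact := hT.exact.map_of_mono_of_preservesKernel G inferInstance inferInstance
  exact ShortComplex.mono_of_epi_of_epi_of_mono (T.mapNatTrans α) hG hF h1 h2

end Steps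

section Main

variable (n : ℕ) (R : Type) [CommRing R] [IsNoetherianRing R]
  [(CohB1.ProjSpace n R).Over An.SC] [(Spec (CommRingCat.of R)).Over An.SC]
  [(CohB1.ProjSpace.toSpec n R).IsOver An.SC]
  [LocallyOfFiniteType (Spec (CommRingCat.of R) ↘ An.SC)] [IsReduced (CohB1.ProjSpace n R)]

omit [IsNoetherianRing R] [LocallyOfFiniteType (Spec (CommRingCat.of R) ↘ An.SC)]
  [IsReduced (CohB1.ProjSpace n R)] in
theorem over_eq : (CohB1.ProjSpace n R ↘ An.SC) =
    CohB1.ProjSpace.toSpec n R ≫ (Spec (CommRingCat.of R) ↘ An.SC) :=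
  (comp_over _ _).symm

omit [IsNoetherianRing R] [IsReduced (CohB1.ProjSpace n R)] in
theorem locallyOfFiniteType_over : LocallyOfFiniteType (CohB1.ProjSpace n R ↘ An.SC) := by
  have : IsProper (CohB1.ProjSpace.toSpec n R) := Groth.Agent.Ega3B.ProjProper.isProper_toSpec n R
  rw [over_eq]
  infer_instance

omit [IsNoetherianRing R] [IsReduced (CohB1.ProjSpace n R)]
  [LocallyOfFiniteType (Spec (CommRingCat.of R) ↘ An.SC)] in
theorem isSeparated_over : IsSeparated (CohB1.ProjSpace n R ↘ An.SC) := by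
  have : IsProper (CohB1.ProjSpace.toSpec n R) := Groth.Agent.Ega3B.ProjProper.isProper_toSpec n R
  have : IsAffineHom (Spec (CommRingCat.of R) ↘ An.SC) := inferInstance
  rw [over_eq]
  infer_instance

/-- The fibre of `p^an` over `y`. -/
abbrev fib (y : An.Pts (Spec (CommRingCat.of R))) : Set (An.top (CohB1.ProjSpace n R)) :=
  {x : An.Pts (CohB1.ProjSpace n R) | An.Pts.map (CohB1.ProjSpace.toSpec n R) x = y}

/-- Acyclicity of `M^an` along the fibres. -/
def Acyc (M : (CohB1.ProjSpace n R).Modules) : Prop :=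
  ∀ q : ℕ, 1 ≤ q → ∀ y : An.Pts (Spec (CommRingCat.of R)),
    IndZero (An.AnMod.toAb ((An.analytify (CohB1.ProjSpace n R)).obj M)) (fib n R y) q

variable {n R}

/-- **Acyclicity of large twists along the fibres of `p^an`.** -/
theorem exists_indZero_tw
    (hC1 : ∀ k : ℤ, 0 ≤ k → Acyc n R (Twist.twistProjSpace n R k))
    {M : (CohB1.ProjSpace n R).Modules} (hM : Coh.IsCoh M) :
    ∃ k₀ : ℕ, ∀ k : ℤ, (k₀ : ℤ) ≤ k → Acyc n R (CohB1.tensorMod M (Twist.twistProjSpace n R k)) := by
  have := locallyOfFiniteType_over n R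
  have := isSeparated_over n R
  have hprop : IsProper (CohB1.ProjSpace.toSpec n R) :=
    Groth.Agent.Ega3B.ProjProper.isProper_toSpec n R
  have := Groth.Agent.Gaga.H883.Serre.isNoetherian_projSpace n R
  have : T2Space (An.Pts (CohB1.ProjSpace n R)) :=
    Groth.Agent.Gaga.H983.DimPts.t2Space_pts
  have hex := Groth.Agent.S4308.result (CohB1.ProjSpace n R)
  have := hex.1
  have := hex.2.1
  have htw : ∀ k : ℤ, PreservesFiniteLimits (tw n R k) ∧ PreservesFiniteColimits (tw n R k) :=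
    fun k => ((tw n R k).exact_tfae.out 0 3).1
      (fun S hS => Groth.Agent.Gaga.H883.Serre.shortExact_tw n R k hS)
  have := fun k => (htw k).1
  have := fun k => (htw k).2
  obtain ⟨D, hD⟩ := exists_uniform_bound (CohB1.ProjSpace n R)
  obtain ⟨a, ha⟩ := exists_indZero
    (An.analytify (CohB1.ProjSpace n R) ⋙ toAbF (CohB1.ProjSpace n R)) (tw n R) Coh.IsCoh
    (Set.range (fib n R)) D
    (by
      rintro F _ ⟨y, rfl⟩ q hq
      refine hD F _ ?_ q hq
      exact (Groth.Agent.An.H875.ProperMap.isProperMap_map (CohB1.ProjSpace.toSpec n R)).isCompact_preimage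
        isCompact_singleton)
    (by
      intro N hN
      obtain ⟨m₀, h⟩ := Groth.Agent.Gaga.H883.Serre.exists_ses n R hN
      obtain ⟨N', K, i, p, w, hK, hS⟩ := h m₀ le_rfl
      refine ⟨ShortComplex.mk i p w, hS, ⟨Iso.refl _⟩, hK, m₀, ?_⟩
      rintro k hk q hq _ ⟨y, rfl⟩
      obtain ⟨e⟩ := Groth.Agent.Sga67.SerreVB.nonempty_tw_sumO n R N' (-(m₀ : ℤ)) k
      refine IndZero.congr ((An.analytify (CohB1.ProjSpace n R) ⋙
        toAbF (CohB1.ProjSpace n R)).mapIso e.symm) ?_
      let A := An.analytify (CohB1.ProjSpace n R) ⋙ toAbF (CohB1.ProjSpace n R)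
      let B : Fin N' → (CohB1.ProjSpace n R).Modules :=
        fun _ => Twist.twistProjSpace n R (-(m₀ : ℤ) + k)
      refine indZero_of_sum (fun j => A.obj (B j))
        (fun j => A.map (biproduct.ι B j)) (fun j => A.map (biproduct.π B j)) ?_
        (fun j => hC1 _ (by omega) q hq y)
      simp only [← A.map_comp]
      rw [← A.map_sum, biproduct.total, A.map_id])
    M hM
  exact ⟨a.toNat, fun k hk q hq y => ha k ((Int.self_le_toNat a).trans hk) q hq _ ⟨y, rfl⟩⟩

omit [IsNoetherianRing R] [(CohB1.ProjSpace n R).Over An.SC]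
  [(Spec (CommRingCat.of R)).Over An.SC] [(CohB1.ProjSpace.toSpec n R).IsOver An.SC]
  [LocallyOfFiniteType (Spec (CommRingCat.of R) ↘ An.SC)] [IsReduced (CohB1.ProjSpace n R)] in
/-- Direct images of short exact sequences with `H¹(P, X₁) = 0`. -/
theorem epi_push_of_H1 {T : ShortComplex (CohB1.ProjSpace n R).Modules} (hT : T.ShortExact)
    (hq : Coh.IsQCoh T.X₃) (h : Subsingleton (Coh.HH (CohB1.ProjSpace n R) T.X₁ 1)) :
    Epi ((An.pushMod (CohB1.ProjSpace.toSpec n R)).map T.g) := by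
  have hprop : IsProper (CohB1.ProjSpace.toSpec n R) :=
    Groth.Agent.Ega3B.ProjProper.isProper_toSpec n R
  have h1 := Groth.Agent.CohqB.TwistMono.surjective_of_H1 hT h
  have h2 : Coh.IsQCoh ((Scheme.Modules.pushforward (CohB1.ProjSpace.toSpec n R)).obj T.X₃) :=
    Groth.Agent.Ega1.QcqsPush.isQCoh_pushforward (CohB1.ProjSpace.toSpec n R) _ hq
  exact Groth.Agent.Ega1.QCohSpec.epi_of_surjective_app_top
    ((Scheme.Modules.pushforward (CohB1.ProjSpace.toSpec n R)).map T.g) h2 h1

open Groth.Agent.Gaga.H991.BC in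
/-- **Base change for the direct image of large twists.** -/
theorem exists_isIso_tw
    (hC1 : ∀ k : ℤ, 0 ≤ k → Acyc n R (Twist.twistProjSpace n R k))
    (hC2 : ∀ k : ℤ, 0 ≤ k →
      IsIso (An.anBaseChange (CohB1.ProjSpace.toSpec n R) (Twist.twistProjSpace n R k)))
    {M : (CohB1.ProjSpace n R).Modules} (hM : Coh.IsCoh M) :
    ∃ k₀ : ℕ, ∀ k : ℤ, (k₀ : ℤ) ≤ k →
      IsIso (An.anBaseChange (CohB1.ProjSpace.toSpec n R)
        (CohB1.tensorMod M (Twist.twistProjSpace n R k))) := by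
  have := locallyOfFiniteType_over n R
  have := isSeparated_over n R
  have hprop : IsProper (CohB1.ProjSpace.toSpec n R) :=
    Groth.Agent.Ega3B.ProjProper.isProper_toSpec n R
  have hex := Groth.Agent.S4308.result (CohB1.ProjSpace n R)
  have := hex.1
  have := hex.2.1
  have hcl : IsClosedMap (An.Pts.map (CohB1.ProjSpace.toSpec n R)) :=
    (Groth.Agent.An.H875.ProperMap.isProperMap_map (CohB1.ProjSpace.toSpec n R)).isClosedMap
  let α := bc (CohB1.ProjSpace.toSpec n R)
  have hL : ∀ (N' : ℕ) (d k : ℤ), 0 ≤ d + k → IsIso (α.app ((tw n R k).obj (sumO n R N' d))) := by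
    intro N' d k hk
    obtain ⟨e⟩ := Groth.Agent.Sga67.SerreVB.nonempty_tw_sumO n R N' d k
    exact Groth.Agent.Gaga.H991.NatAb.isIso_app_of_iso α e.symm
      (Groth.Agent.Gaga.H991.NatAb.isIso_app_biproduct α _ fun _ => hC2 _ hk)
  have key : ∀ M : (CohB1.ProjSpace n R).Modules, Coh.IsCoh M → ∃ k₀ : ℕ, ∀ k : ℤ, (k₀ : ℤ) ≤ k →
      Epi (α.app ((tw n R k).obj M)) := by
    intro M hM
    obtain ⟨m₀, h⟩ := Groth.Agent.Gaga.H883.Serre.exists_ses n R hM
    obtain ⟨N', K, i, p, w, hK, hS⟩ := h m₀ le_rfl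
    obtain ⟨k₁, h₁⟩ := exists_indZero_tw hC1 hK
    refine ⟨max m₀ k₁, fun k hk => ?_⟩
    have hk1 : (m₀ : ℤ) ≤ k := le_trans (by exact_mod_cast le_max_left _ _) hk
    have hk2 : (k₁ : ℤ) ≤ k := le_trans (by exact_mod_cast le_max_right _ _) hk
    have hT := Groth.Agent.Gaga.H883.Serre.shortExact_tw n R k hS
    have hTa := hT.map_of_exact (An.analytify (CohB1.ProjSpace n R))
    have he := epi_anPushMap (CohB1.ProjSpace.toSpec n R) hcl hTa
      (fun y => h₁ k hk2 1 le_rfl y)
    have hiso := hL N' (-(m₀ : ℤ)) k (by omega)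
    exact epi_step α ((ShortComplex.mk i p w).map (tw n R k)) (@IsIso.epi_of_iso _ _ _ _ _ hiso) he
  obtain ⟨m₀, h⟩ := Groth.Agent.Gaga.H883.Serre.exists_ses n R hM
  obtain ⟨N', K, i, p, w, hK, hS⟩ := h m₀ le_rfl
  obtain ⟨k₁, h₁⟩ := key M hM
  obtain ⟨k₂, h₂⟩ := key K hK
  obtain ⟨k₃, h₃⟩ := Groth.Agent.Gaga.H883.Serre.serre n R hK
  refine ⟨max m₀ (max k₁ (max k₂ k₃)), fun k hk => ?_⟩
  have hk0 : (m₀ : ℤ) ≤ k := le_trans (by exact_mod_cast le_max_left _ _) hk
  have hk1 : (k₁ : ℤ) ≤ k := le_trans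
    (by exact_mod_cast (le_max_left k₁ _).trans (le_max_right m₀ _)) hk
  have hk2 : (k₂ : ℤ) ≤ k := le_trans
    (by exact_mod_cast (le_max_left k₂ k₃).trans ((le_max_right k₁ _).trans (le_max_right m₀ _))) hk
  have hk3 : (k₃ : ℤ) ≤ k := le_trans
    (by exact_mod_cast (le_max_right k₂ k₃).trans ((le_max_right k₁ _).trans (le_max_right m₀ _))) hk
  have hT := Groth.Agent.Gaga.H883.Serre.shortExact_tw n R k hS
  have hepi : Epi (α.app ((tw n R k).obj M)) := h₁ k hk1
  have hepiK : Epi (α.app ((tw n R k).obj K)) := h₂ k hk2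
  have hiso := hL N' (-(m₀ : ℤ)) k (by omega)
  have hp := epi_push_of_H1 hT (Groth.Agent.Gaga.H883.Serre.isQCoh_tw n R hM.1 k)
    (h₃ k hk3 1 le_rfl)
  have hexS : Epi ((An.pushMod (CohB1.ProjSpace.toSpec n R) ⋙
      An.analytify (Spec (CommRingCat.of R))).map ((ShortComplex.mk i p w).map (tw n R k)).g) := by
    have : (An.analytify (Spec (CommRingCat.of R))).IsLeftAdjoint :=
      (An.analytifyAdj (Spec (CommRingCat.of R))).isLeftAdjoint
    exact inferInstanceAs (Epi ((An.analytify (Spec (CommRingCat.of R))).map _))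
  have hmono : Mono (α.app ((tw n R k).obj M)) :=
    mono_step α ((ShortComplex.mk i p w).map (tw n R k)) hT hexS hepiK (@IsIso.mono_of_iso _ _ _ _ _ hiso)
  exact isIso_of_mono_of_epi (α.app ((tw n R k).obj M))

end Main

end Groth.Agent.Gaga.H975.DIso
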