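import Groth.Agent.Gaga.H975.DPoly
import Groth.Agent.Gaga.H989.OAnInst
import Groth.Agent.Gaga.H294.C2An

/-!
# Large twists on `P^n_R`, `R = ℂ[y_1, …, y_N]`, unconditionally

* `exists_acyc`: `M(k)^an` is acyclic along the fibres of `P^n(ℂ) × ℂ^N → ℂ^N` for `k ≥ k₀(M)`;
* `exists_isIso`: base change for the direct image of `M(k)`, `k ≥ k₀(M)`.
-/

set_option autoImplicit false

open CategoryTheory Abelian Limits Opposite TopologicalSpace AlgebraicGeometry Topology

noncomputable section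

namespace Groth.Agent.Gaga.H975.DFin

open CohB1 Groth.Agent.Gaga.H988.PnPts Groth.Agent.Gaga.H988.PnCoord Groth.Agent.Gaga.H988.Base
open Groth.Agent.Gaga.H41.Ind Groth.Agent.Gaga.H975.DIso Groth.Agent.Gaga.H294.Cone

variable {N n : ℕ} {R : Type} [CommRing R] [Algebra ℂ R] (c : Coord N R)
  [(Spec (CommRingCat.of R)).Over An.SC] [StdB R] [(ProjSpace n R).Over An.SC] [StdOver n R]

include c

/-- **Acyclicity of large twists along the fibres of `P^n × ℂ^N → ℂ^N`.** -/
theorem exists_acyc {M : (ProjSpace n R).Modules} (hM : Coh.IsCoh M) :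
    ∃ k₀ : ℕ, ∀ k : ℤ, (k₀ : ℤ) ≤ k → Acyc n R (tensorMod M (Twist.twistProjSpace n R k)) :=
  DPoly.exists_indZero_tw c (fun j _ => Groth.Agent.Gaga.H989.OAnInst.homSheaf' c j) hM

/-- **Base change for large twists on `P^n × ℂ^N → ℂ^N`.** -/
theorem exists_isIso {M : (ProjSpace n R).Modules} (hM : Coh.IsCoh M) :
    ∃ k₀ : ℕ, ∀ k : ℤ, (k₀ : ℤ) ≤ k →
      IsIso (An.anBaseChange (ProjSpace.toSpec n R) (tensorMod M (Twist.twistProjSpace n R k))) :=
  DPoly.exists_isIso_tw c (fun j _ => Groth.Agent.Gaga.H989.OAnInst.homSheaf' c j)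
    (fun _ hk => Groth.Agent.Gaga.H294.C2An.isIso_anBaseChange_twist_int c hk) hM

end Groth.Agent.Gaga.H975.DFin
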