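import Groth.Agent.Gaga.H975.DIso
import Groth.Agent.Gaga.H988.Base
import Groth.Agent.Gaga.H294.FibreVan
import Groth.Agent.Sga5.ProjSmooth

/-!
# Large twists on `P^n_R`, `R = ℂ[y_1, …, y_N]`

`c : Coord N R`; `exists_indZero_tw`, `exists_isIso_tw`: the hypotheses of `Groth.Agent.Gaga.H975.DIso` reduced to
`HomSheaf (homCoords c) (O(j)^an) j` and `IsIso (anBaseChange p (O(k)))`.
-/

set_option autoImplicit false

open CategoryTheory Abelian Limits Opposite TopologicalSpace AlgebraicGeometry Topology

noncomputable section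

namespace Groth.Agent.Gaga.H975.DPoly

open CohB1 Groth.Agent.Gaga.H988.PnPts Groth.Agent.Gaga.H988.PnCoord Groth.Agent.Gaga.H988.Base
open Groth.Agent.Gaga.H41.Ind Groth.Agent.Gaga.H975.DIso Groth.Agent.Gaga.H294.Cone

section Reduced

universe u

variable (n : ℕ) (A : Type u) [CommRing A]

/-- The open cover of `P^n_A` by affine spaces. -/
def cov : (ProjSpace n A).OpenCover :=
  Scheme.Cover.mkOfCovers (Fin (n + 1)) (fun _ => Spec (CommRingCat.of (MvPolynomial (Fin n) A)))
    (fun i => Sga5.ProjSmooth.chart n A i) (fun x => by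
      obtain ⟨i, y, hy⟩ := Sga5.ProjSmooth.exists_mem_chart n A x
      exact ⟨i, y, hy⟩) (fun i => inferInstance)

theorem isReduced_projSpace [_root_.IsReduced A] : AlgebraicGeometry.IsReduced (ProjSpace n A) := by
  have : ∀ i, AlgebraicGeometry.IsReduced ((cov n A).X i) := fun i => by
    have h : _root_.IsReduced (CommRingCat.of (MvPolynomial (Fin n) A)) :=
      inferInstanceAs (_root_.IsReduced (MvPolynomial (Fin n) A))
    change AlgebraicGeometry.IsReduced (Spec (CommRingCat.of (MvPolynomial (Fin n) A)))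
    infer_instance
  exact IsReduced.of_openCover _ (cov n A)

end Reduced

variable {N n : ℕ} {R : Type} [CommRing R] [Algebra ℂ R] (c : Coord N R)

include c

theorem isNoetherianRing : IsNoetherianRing R :=
  isNoetherianRing_of_surjective _ _ (MvPolynomial.aeval c.y : MvPolynomial (Fin N) ℂ →ₐ[ℂ] R).toRingHom
    c.bij.surjective

theorem isReduced : _root_.IsReduced R :=
  isReduced_of_injective
    (AlgEquiv.ofBijective (MvPolynomial.aeval c.y : MvPolynomial (Fin N) ℂ →ₐ[ℂ] R) c.bij).symm
    (AlgEquiv.injective _)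

theorem finiteType : Algebra.FiniteType ℂ R :=
  Algebra.FiniteType.of_surjective (MvPolynomial.aeval c.y : MvPolynomial (Fin N) ℂ →ₐ[ℂ] R)
    c.bij.surjective

variable [(Spec (CommRingCat.of R)).Over An.SC] [StdB R]

theorem locallyOfFiniteType : LocallyOfFiniteType (Spec (CommRingCat.of R) ↘ An.SC) := by
  rw [StdB.eq (R := R)]
  have h := finiteType c
  have h2 : (CommRingCat.ofHom (algebraMap ℂ R)).hom.FiniteType :=
    RingHom.finiteType_algebraMap.2 h
  exact (HasRingHomProperty.Spec_iff (P := @LocallyOfFiniteType)).2 h2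

variable [(ProjSpace n R).Over An.SC] [StdOver n R]

/-- Acyclicity along the fibres from the description by homogeneous functions. -/
theorem acyc_of_homSheaf {M : (ProjSpace n R).Modules} {j : ℤ} (hj : -((n : ℤ) + 1) < j)
    (H : HomSheaf (homCoords (n := n) c) (An.AnMod.toAb ((An.analytify (ProjSpace n R)).obj M)) j) :
    Acyc n R M := by
  have := locallyOfFiniteType c
  have h1 := locallyOfFiniteType_over n R
  have h2 := isSeparated_over n R
  have h3 : T2Space (An.Pts (ProjSpace n R)) := Groth.Agent.Gaga.H983.DimPts.t2Space_pts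
  have h4 : T2Space (An.top (ProjSpace n R)) := h3
  intro q hq y
  obtain ⟨q, rfl⟩ : ∃ p, q = p + 1 := ⟨q - 1, by omega⟩
  have h5 := H.indZero_fib (by simpa using hj) ((ptB c).symm y) q
  have h6 : (homCoords (n := n) c).fib ((ptB c).symm y) = fib n R y := by
    ext x
    obtain ⟨p, hp, rfl⟩ := exists_pt c (x : An.Pts (ProjSpace n R))
    refine ((homCoords (n := n) c).pt_mem_fib _ hp).trans ?_
    change _ ↔ An.Pts.map (ProjSpace.toSpec n R) (pt c p) = y
    rw [map_pt c hp, Homeomorph.eq_symm_apply]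
  rw [h6] at h5
  exact h5

/-- **Acyclicity of large twists along the fibres of `P^n × ℂ^N → ℂ^N`.** -/
theorem exists_indZero_tw
    (H : ∀ j : ℤ, 0 ≤ j → HomSheaf (homCoords (n := n) c)
      (An.AnMod.toAb ((An.analytify (ProjSpace n R)).obj (Twist.twistProjSpace n R j))) j)
    {M : (ProjSpace n R).Modules} (hM : Coh.IsCoh M) :
    ∃ k₀ : ℕ, ∀ k : ℤ, (k₀ : ℤ) ≤ k → Acyc n R (tensorMod M (Twist.twistProjSpace n R k)) := by
  have := isNoetherianRing c
  have := isReduced c
  have := isReduced_projSpace n R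
  have := locallyOfFiniteType c
  exact DIso.exists_indZero_tw (fun k hk => acyc_of_homSheaf c (by omega) (H k hk)) hM

/-- **Base change for large twists on `P^n × ℂ^N → ℂ^N`.** -/
theorem exists_isIso_tw
    (H : ∀ j : ℤ, 0 ≤ j → HomSheaf (homCoords (n := n) c)
      (An.AnMod.toAb ((An.analytify (ProjSpace n R)).obj (Twist.twistProjSpace n R j))) j)
    (hC2 : ∀ k : ℤ, 0 ≤ k →
      IsIso (An.anBaseChange (ProjSpace.toSpec n R) (Twist.twistProjSpace n R k)))
    {M : (ProjSpace n R).Modules} (hM : Coh.IsCoh M) :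
    ∃ k₀ : ℕ, ∀ k : ℤ, (k₀ : ℤ) ≤ k →
      IsIso (An.anBaseChange (ProjSpace.toSpec n R) (tensorMod M (Twist.twistProjSpace n R k))) := by
  have := isNoetherianRing c
  have := isReduced c
  have := isReduced_projSpace n R
  have := locallyOfFiniteType c
  exact DIso.exists_isIso_tw (fun k hk => acyc_of_homSheaf c (by omega) (H k hk)) hC2 hM

end Groth.Agent.Gaga.H975.DPoly
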