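import Groth.Prelude.Def_AnHol
import Mathlib.Topology.Sheaves.SheafCondition.UniqueGluing

/-!
# Sections of sheaves of modules over a sheaf of commutative rings on a space

`T : TopCat.{0}`, `R : TopCat.Sheaf CommRingCat T`, `Mod R` = sheaves of modules over `R` (in the form of
`An.AnMod`).  Elementary API: sections `Sec M V`, restriction `res`, gluing, components `app` of a morphism,
construction of modules and morphisms from explicit data.
-/

set_option autoImplicit false

open CategoryTheory TopologicalSpace Opposite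

noncomputable section

namespace Groth.Agent.Gaga.H975.ModSec

variable {T : TopCat.{0}}

/-- The sheaf of rings in the form Mathlib's sheaves of modules take. -/
abbrev ringSheaf (R : TopCat.Sheaf CommRingCat.{0} T) : TopCat.Sheaf RingCat.{0} T :=
  (sheafCompose _ (forget₂ CommRingCat RingCat.{0})).obj R

/-- Sheaves of modules over `R`. -/
abbrev Mod (R : TopCat.Sheaf CommRingCat.{0} T) : Type 1 := SheafOfModules.{0} (ringSheaf R)

example (X : AlgebraicGeometry.Scheme.{0}) [X.Over An.SC] : An.AnMod X = Mod (An.hol X) := rfl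

variable {R : TopCat.Sheaf CommRingCat.{0} T}

variable (R) in
/-- Sections of `R`. -/
def O (V : Opens T) : Type := R.obj.obj (op V)

instance (V : Opens T) : CommRing (O R V) := inferInstanceAs (CommRing (R.obj.obj (op V)))

/-- Restriction of sections of `R`. -/
def resO {V W : Opens T} (h : W ≤ V) : O R V →+* O R W := (R.obj.map (homOfLE h).op).hom

theorem resO_resO {U V W : Opens T} (h : V ≤ U) (h' : W ≤ V) (r : O R U) :
    resO h' (resO h r) = resO (h'.trans h) r := by
  change (R.obj.map (homOfLE h').op) ((R.obj.map (homOfLE h).op) r) = (R.obj.map (homOfLE (h'.trans h)).op) r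
  rw [← CommRingCat.comp_apply, ← Functor.map_comp]
  rfl

theorem resO_self {U : Opens T} (h : U ≤ U) (r : O R U) : resO h r = r := by
  change (R.obj.map (homOfLE h).op) r = r
  have : (homOfLE h).op = 𝟙 (op U) := rfl
  rw [this, R.obj.map_id]; rfl

/-- Sections of a module. -/
def Sec (M : Mod R) (V : Opens T) : Type := M.val.presheaf.obj (op V)

instance (M : Mod R) (V : Opens T) : AddCommGroup (Sec M V) :=
  inferInstanceAs (AddCommGroup (M.val.presheaf.obj (op V)))

instance (M : Mod R) (V : Opens T) : Module (O R V) (Sec M V) :=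
  inferInstanceAs (Module (R.obj.obj (op V)) (M.val.obj (op V)))

/-- Restriction of sections. -/
def res (M : Mod R) {V W : Opens T} (h : W ≤ V) : Sec M V →+ Sec M W :=
  (M.val.presheaf.map (homOfLE h).op).hom

theorem res_smul (M : Mod R) {V W : Opens T} (h : W ≤ V) (r : O R V) (m : Sec M V) :
    res M h (r • m) = resO h r • res M h m :=
  M.val.map_smul _ _ _

theorem res_res (M : Mod R) {U V W : Opens T} (h : V ≤ U) (h' : W ≤ V) (s : Sec M U) :
    res M h' (res M h s) = res M (h'.trans h) s := by
  change (M.val.presheaf.map (homOfLE h').op) ((M.val.presheaf.map (homOfLE h).op) s) =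
    (M.val.presheaf.map (homOfLE (h'.trans h)).op) s
  rw [← ConcreteCategory.comp_apply, ← Functor.map_comp]
  rfl

theorem res_self (M : Mod R) {U : Opens T} (h : U ≤ U) (s : Sec M U) : res M h s = s := by
  change (M.val.presheaf.map (homOfLE h).op) s = s
  have : (homOfLE h).op = 𝟙 (op U) := rfl
  rw [this, M.val.presheaf.map_id]; rfl

/-- Gluing of sections. -/
theorem exists_glue (N : Mod R) {ι : Type*} (U : ι → Opens T) (V : Opens T) (hV : V ≤ ⨆ i, U i)
    (hU : ∀ i, U i ≤ V) (s : ∀ i, Sec N (U i))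
    (h : ∀ i j (W : Opens T) (hi : W ≤ U i) (hj : W ≤ U j), res N hi (s i) = res N hj (s j)) :
    ∃ t : Sec N V, ∀ i, res N (hU i) t = s i := by
  obtain ⟨t, ht, -⟩ := TopCat.Sheaf.existsUnique_gluing' ⟨_, N.isSheaf⟩ U V (fun i => homOfLE (hU i)) hV s
    (fun i j => h i j _ inf_le_left inf_le_right)
  exact ⟨t, ht⟩

/-- Sections agreeing locally are equal. -/
theorem eq_of_locally (N : Mod R) {ι : Type*} (U : ι → Opens T) (V : Opens T) (hV : V ≤ ⨆ i, U i)
    (hU : ∀ i, U i ≤ V) (s t : Sec N V) (h : ∀ i, res N (hU i) s = res N (hU i) t) : s = t :=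
  TopCat.Sheaf.eq_of_locally_eq' ⟨_, N.isSheaf⟩ U V (fun i => homOfLE (hU i)) hV s t h

/-- Sections agreeing near every point are equal. -/
theorem eq_of_forall_nhds (N : Mod R) {V : Opens T} (s t : Sec N V)
    (h : ∀ x ∈ V, ∃ (W : Opens T) (_ : x ∈ W) (hW : W ≤ V), res N hW s = res N hW t) : s = t := by
  choose W hx hW hst using h
  refine eq_of_locally N (fun x : V => W x.1 x.2) V ?_ (fun x => hW x.1 x.2) s t fun x => hst x.1 x.2
  intro x hxV
  exact Opens.mem_iSup.2 ⟨⟨x, hxV⟩, hx x hxV⟩

/-- Component of a morphism. -/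
def app {M N : Mod R} (φ : M ⟶ N) (V : Opens T) : Sec M V →ₗ[O R V] Sec N V :=
  (φ.val.app (op V)).hom

theorem app_res {M N : Mod R} (φ : M ⟶ N) {V W : Opens T} (h : W ≤ V) (m : Sec M V) :
    app φ W (res M h m) = res N h (app φ V m) :=
  congr($(((PresheafOfModules.toPresheaf _).map φ.val).naturality (homOfLE h).op) m)

theorem app_comp {M N P : Mod R} (φ : M ⟶ N) (ψ : N ⟶ P) (V : Opens T) (m : Sec M V) :
    app (φ ≫ ψ) V m = app ψ V (app φ V m) := rfl

theorem app_id {M : Mod R} (V : Opens T) (m : Sec M V) : app (𝟙 M) V m = m := rfl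

theorem hom_ext {M N : Mod R} {φ ψ : M ⟶ N} (h : ∀ V m, app φ V m = app ψ V m) : φ = ψ := by
  apply SheafOfModules.hom_ext
  ext V m
  exact h V.unop m

/-- Construct a morphism from its components. -/
def homMk {M N : Mod R} (f : ∀ V : Opens T, Sec M V →+ Sec N V)
    (hsmul : ∀ V (r : O R V) (m : Sec M V), f V (r • m) = r • f V m)
    (hmap : ∀ (V W : Opens T) (h : W ≤ V) (m : Sec M V), f W (res M h m) = res N h (f V m)) : M ⟶ N :=
  ⟨PresheafOfModules.homMk
    { app := fun V => AddCommGrpCat.ofHom (f V.unop)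
      naturality := fun V W i => by
        ext m
        exact hmap V.unop W.unop i.unop.le m }
    (fun V r m => hsmul V.unop r m)⟩

theorem app_homMk {M N : Mod R} (f : ∀ V : Opens T, Sec M V →+ Sec N V)
    (hsmul : ∀ V (r : O R V) (m : Sec M V), f V (r • m) = r • f V m)
    (hmap : ∀ (V W : Opens T) (h : W ≤ V) (m : Sec M V), f W (res M h m) = res N h (f V m))
    (V : Opens T) (m : Sec M V) : app (homMk f hsmul hmap) V m = f V m := rfl

/-- Raw data for a sheaf of modules: modules of sections, restrictions, sheaf property. -/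
structure Data (R : TopCat.Sheaf CommRingCat.{0} T) where
  /-- sections -/
  S : Opens T → Type
  [grp : ∀ V, AddCommGroup (S V)]
  [mod : ∀ V, Module (O R V) (S V)]
  /-- restriction -/
  r : ∀ {V W : Opens T}, W ≤ V → (S V →+ S W)
  r_self : ∀ {V : Opens T} (h : V ≤ V) (s : S V), r h s = s
  r_r : ∀ {U V W : Opens T} (h : V ≤ U) (h' : W ≤ V) (s : S U), r h' (r h s) = r (h'.trans h) s
  r_smul : ∀ {V W : Opens T} (h : W ≤ V) (a : O R V) (s : S V), r h (a • s) = resO h a • r h s
  ext : ∀ {ι : Type} (U : ι → Opens T) (s t : S (⨆ i, U i)),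
    (∀ i, r (le_iSup U i) s = r (le_iSup U i) t) → s = t
  glue : ∀ {ι : Type} (U : ι → Opens T) (s : ∀ i, S (U i)),
    (∀ i j, r (inf_le_left : U i ⊓ U j ≤ U i) (s i) = r (inf_le_right : U i ⊓ U j ≤ U j) (s j)) →
    ∃ t : S (⨆ i, U i), ∀ i, r (le_iSup U i) t = s i

attribute [instance] Data.grp Data.mod

namespace Data

variable (D : Data R)

/-- The presheaf of abelian groups. -/
def presheafAb : TopCat.Presheaf AddCommGrpCat.{0} T where
  obj V := AddCommGrpCat.of (D.S V.unop)
  map f := AddCommGrpCat.ofHom (D.r f.unop.le)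
  map_id V := by
    ext s
    exact D.r_self _ s
  map_comp f g := by
    ext s
    exact (D.r_r _ _ s).symm

instance (V : (Opens T)ᵒᵖ) : Module ((ringSheaf R).obj.obj V) (D.presheafAb.obj V) :=
  inferInstanceAs (Module (O R V.unop) (D.S V.unop))

/-- The presheaf of modules. -/
def presheafMod : PresheafOfModules.{0} (ringSheaf R).obj :=
  PresheafOfModules.ofPresheaf D.presheafAb (fun _ _ f r φ => D.r_smul f.unop.le r φ)

theorem isSheaf : D.presheafAb.IsSheaf := by
  rw [TopCat.Presheaf.isSheaf_iff_isSheafUniqueGluing]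
  intro ι U sf hsf
  obtain ⟨t, ht⟩ := D.glue U sf (fun i j => hsf i j)
  exact ⟨t, fun i => ht i, fun t' ht' => D.ext U _ _ fun i => (ht' i).trans (ht i).symm⟩

/-- The sheaf of modules attached to the data. -/
def toMod : Mod R where
  val := D.presheafMod
  isSheaf := D.isSheaf

example (V : Opens T) : Sec D.toMod V = D.S V := rfl

theorem res_toMod {V W : Opens T} (h : W ≤ V) (s : D.S V) : res D.toMod h (show Sec D.toMod V from s) = D.r h s := rfl

end Data

end Groth.Agent.Gaga.H975.ModSec
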