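import Groth.Agent.Gaga.H975.CompBij
import Groth.Agent.Gaga.H975.BridgeH0
import Groth.Agent.S4313

/-!
# S4309 (full faithfulness) from the comparison of global sections
-/

set_option autoImplicit false

open CategoryTheory TopologicalSpace Opposite AlgebraicGeometry

noncomputable section

namespace Groth.Agent.Gaga.H975.S4309Of

open Groth.Agent.Gaga.H975.ModSec Groth.Agent.Gaga.H975.AnSec
open Groth.Agent.CohqB.HomSheaf (homSheaf isCoh_homSheaf)

/-- Full faithfulness from the comparison of global sections. -/
theorem of_sections (X : Scheme.{0}) [X.Over An.SC] [IsReduced X] [LocallyOfFiniteType (X ↘ An.SC)]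
    (H : ∀ F : X.Modules, Coh.IsCoh F → Function.Bijective (an : Γ(F, ⊤) → Sec ((An.analytify X).obj F) (pre ⊤)))
    (M N : X.Modules) (hM : Coh.IsCoh M) (hN : Coh.IsCoh N) :
    Function.Bijective ((An.analytify X).map : (M ⟶ N) → ((An.analytify X).obj M ⟶ (An.analytify X).obj N)) := by
  have : IsLocallyNoetherian An.SC := inferInstance
  have : IsLocallyNoetherian X := LocallyOfFiniteType.isLocallyNoetherian (X ↘ An.SC)
  exact CompBij.map_bijective hM hN (fun x => Groth.Agent.S4313.result X x) (H _ (isCoh_homSheaf hM hN))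

/-- Full faithfulness from the comparison of cohomology in degree zero. -/
theorem of_gagaH_zero (X : Scheme.{0}) [X.Over An.SC] [IsReduced X] [LocallyOfFiniteType (X ↘ An.SC)]
    (H : ∀ F : X.Modules, Coh.IsCoh F → Function.Bijective (An.gagaH X F 0))
    (M N : X.Modules) (hM : Coh.IsCoh M) (hN : Coh.IsCoh N) :
    Function.Bijective ((An.analytify X).map : (M ⟶ N) → ((An.analytify X).obj M ⟶ (An.analytify X).obj N)) :=
  of_sections X (fun F hF => (BridgeH0.bijective_gagaH_zero_iff F).1 (H F hF)) M N hM hN

end Groth.Agent.Gaga.H975.S4309Of
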